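import Mathlib

/-!
Supports of the generating series of primitive middle Hodge numbers of complete intersections.
-/

set_option autoImplicit false

open Finset MvPowerSeries

namespace Groth.Agent.HodgeSeriesLib

/-- The exponent `(p, q)`. -/
noncomputable def ix (p q : ℕ) : Fin 2 →₀ ℕ := Finsupp.single 0 p + Finsupp.single 1 q

@[simp] theorem ix_zero_apply (p q : ℕ) : ix p q 0 = p := by simp [ix]
@[simp] theorem ix_one_apply (p q : ℕ) : ix p q 1 = q := by simp [ix]

theorem eq_ix (m : Fin 2 →₀ ℕ) : m = ix (m 0) (m 1) := by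
  ext i; fin_cases i <;> simp

theorem ix_inj {p q p' q' : ℕ} (h : ix p q = ix p' q') : p = p' ∧ q = q' :=
  ⟨by simpa using DFunLike.congr_fun h 0, by simpa using DFunLike.congr_fun h 1⟩

theorem ix_add (p q p' q' : ℕ) : ix p q + ix p' q' = ix (p + p') (q + q') := by
  ext i; fin_cases i <;> simp

section
variable {σ : Type*}

/-- All coefficients are nonnegative. -/
def Nonneg (f : MvPowerSeries σ ℤ) : Prop := ∀ m, 0 ≤ coeff m f

theorem nonneg_one : Nonneg (1 : MvPowerSeries σ ℤ) := fun m => by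
  classical
  rw [coeff_one]; split <;> simp

theorem Nonneg.mul {f g : MvPowerSeries σ ℤ} (hf : Nonneg f) (hg : Nonneg g) : Nonneg (f * g) := fun m => by
  classical
  rw [coeff_mul]; exact sum_nonneg fun x _ => mul_nonneg (hf _) (hg _)

theorem coeff_mul_pos {f g : MvPowerSeries σ ℤ} (hf : Nonneg f) (hg : Nonneg g) {a b : σ →₀ ℕ}
    (ha : 0 < coeff a f) (hb : 0 < coeff b g) : 0 < coeff (a + b) (f * g) := by
  classical
  rw [coeff_mul]
  exact sum_pos' (fun x _ => mul_nonneg (hf _) (hg _)) ⟨(a, b), by simp, mul_pos ha hb⟩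

theorem exists_of_coeff_mul_ne_zero {f g : MvPowerSeries σ ℤ} {m : σ →₀ ℕ} (h : coeff m (f * g) ≠ 0) :
    ∃ a b, a + b = m ∧ coeff a f ≠ 0 ∧ coeff b g ≠ 0 := by
  classical
  rw [coeff_mul] at h
  obtain ⟨x, hx, hne⟩ := exists_ne_zero_of_sum_ne_zero h
  exact ⟨x.1, x.2, by simpa using hx, left_ne_zero_of_mul hne, right_ne_zero_of_mul hne⟩

variable {ι : Type*}

theorem nonneg_prod {s : Finset ι} {f : ι → MvPowerSeries σ ℤ} (hf : ∀ i ∈ s, Nonneg (f i)) :
    Nonneg (∏ i ∈ s, f i) :=
  prod_induction f Nonneg (fun _ _ ha hb => ha.mul hb) nonneg_one hf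

theorem coeff_prod_pos {s : Finset ι} {f : ι → MvPowerSeries σ ℤ} (hf : ∀ i ∈ s, Nonneg (f i))
    {g : ι → (σ →₀ ℕ)} (hg : ∀ i ∈ s, 0 < coeff (g i) (f i)) : 0 < coeff (∑ i ∈ s, g i) (∏ i ∈ s, f i) := by
  classical
  induction s using Finset.induction_on with
  | empty => simp
  | insert i s hi ih =>
    rw [sum_insert hi, prod_insert hi]
    exact coeff_mul_pos (hf i (mem_insert_self i s)) (nonneg_prod fun j hj => hf j (mem_insert_of_mem hj))
      (hg i (mem_insert_self i s)) (ih (fun j hj => hf j (mem_insert_of_mem hj)) fun j hj => hg j (mem_insert_of_mem hj))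

theorem exists_of_coeff_prod_ne_zero {s : Finset ι} {f : ι → MvPowerSeries σ ℤ} {m : σ →₀ ℕ}
    (h : coeff m (∏ i ∈ s, f i) ≠ 0) :
    ∃ g : ι → (σ →₀ ℕ), (∑ i ∈ s, g i = m) ∧ ∀ i ∈ s, coeff (g i) (f i) ≠ 0 := by
  classical
  induction s using Finset.induction_on generalizing m with
  | empty =>
    refine ⟨0, ?_, by simp⟩
    rw [prod_empty, coeff_one] at h
    by_contra hne
    exact h (if_neg fun hm => hne (by simp [hm]))
  | insert i s hi ih =>
    rw [prod_insert hi] at h
    obtain ⟨a, b, hab, ha, hb⟩ := exists_of_coeff_mul_ne_zero h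
    obtain ⟨g, hg1, hg2⟩ := ih hb
    refine ⟨Function.update g i a, ?_, fun j hj => ?_⟩
    · rw [sum_insert hi, Function.update_self, sum_congr rfl (fun j hj => Function.update_of_ne (ne_of_mem_of_not_mem hj hi) a g), hg1, hab]
    · rcases mem_insert.1 hj with rfl | hj'
      · rwa [Function.update_self]
      · rw [Function.update_of_ne (ne_of_mem_of_not_mem hj' hi)]; exact hg2 j hj'

end

/-- The monomial `c y^u z^v`. -/
theorem natCast_mul_pow (c u v : ℕ) :
    (c : MvPowerSeries (Fin 2) ℤ) * X 0 ^ u * X 1 ^ v = monomial (ix u v) (c : ℤ) := by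
  rw [X_pow_eq, X_pow_eq, ← map_natCast (C (σ := Fin 2) (R := ℤ)), ← monomial_zero_eq_C_apply,
    monomial_mul_monomial, monomial_mul_monomial]
  simp [ix]

/-- The series `∑_{u, v} [Q u v] c(u, v) y^u z^v`. -/
theorem coeff_boxSum {n : ℕ} (Q : ℕ → ℕ → Prop) [∀ u v, Decidable (Q u v)] (c : ℕ → ℕ → ℕ) (p q : ℕ) :
    coeff (ix p q) (∑ u ∈ range n, ∑ v ∈ range n,
      if Q u v then (c u v : MvPowerSeries (Fin 2) ℤ) * X 0 ^ u * X 1 ^ v else 0) =
    if p < n ∧ q < n ∧ Q p q then (c p q : ℤ) else 0 := by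
  classical
  simp only [map_sum, natCast_mul_pow, apply_ite (coeff (ix p q)), map_zero, coeff_monomial]
  by_cases h : p < n ∧ q < n
  · rw [sum_eq_single p, sum_eq_single q]
    · simp [h.1, h.2]
    · intro v _ hv
      rw [if_neg (fun he => hv (ix_inj he).2.symm)]; simp
    · exact fun hh => absurd (mem_range.2 h.2) hh
    · intro u _ hu
      refine sum_eq_zero fun v _ => ?_
      rw [if_neg (fun he => hu (ix_inj he).1.symm)]; simp
    · exact fun hh => absurd (mem_range.2 h.1) hh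
  · rw [if_neg (fun hh => h ⟨hh.1, hh.2.1⟩)]
    refine sum_eq_zero fun u hu => sum_eq_zero fun v hv => ?_
    by_cases he : ix p q = ix u v
    · obtain ⟨rfl, rfl⟩ := ix_inj he
      exact absurd ⟨mem_range.1 hu, mem_range.1 hv⟩ h
    · simp [he]

theorem coeff_one_add_mul_one_add (p q : ℕ) :
    coeff (ix p q) ((1 + X 0) * (1 + X 1) : MvPowerSeries (Fin 2) ℤ) = if p ≤ 1 ∧ q ≤ 1 then 1 else 0 := by
  classical
  have h1 : ((1 + X 0) * (1 + X 1) : MvPowerSeries (Fin 2) ℤ) =
      ∑ u ∈ range 2, ∑ v ∈ range 2, if True then ((1 : ℕ) : MvPowerSeries (Fin 2) ℤ) * X 0 ^ u * X 1 ^ v else 0 := by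
    simp [sum_range_succ]; ring
  rw [h1, coeff_boxSum (fun _ _ => True) (fun _ _ => 1)]
  simp

theorem coeff_pow_box : ∀ (k p q : ℕ),
    (coeff (ix p q) (((1 + X 0) * (1 + X 1)) ^ k : MvPowerSeries (Fin 2) ℤ) ≠ 0 → p ≤ k ∧ q ≤ k) ∧
      (p ≤ k ∧ q ≤ k → 0 < coeff (ix p q) (((1 + X 0) * (1 + X 1)) ^ k : MvPowerSeries (Fin 2) ℤ)) := by
  classical
  intro k
  induction k with
  | zero =>
    intro p q
    rw [pow_zero, coeff_one]
    refine ⟨fun h => ?_, fun h => ?_⟩
    · by_contra hne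
      refine h (if_neg fun he => hne ?_)
      have h0 := DFunLike.congr_fun he 0
      have h1 := DFunLike.congr_fun he 1
      simp at h0 h1; omega
    · obtain ⟨rfl, rfl⟩ : p = 0 ∧ q = 0 := by omega
      simp [ix]
  | succ k ih =>
    have hbase : Nonneg ((1 + X 0) * (1 + X 1) : MvPowerSeries (Fin 2) ℤ) := fun m => by
      rw [eq_ix m, coeff_one_add_mul_one_add]; split <;> simp
    have hpow : Nonneg (((1 + X 0) * (1 + X 1)) ^ k : MvPowerSeries (Fin 2) ℤ) := by
      rw [← card_range k, ← prod_const]; exact nonneg_prod fun _ _ => hbase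
    intro p q
    refine ⟨fun h => ?_, fun h => ?_⟩
    · rw [pow_succ] at h
      obtain ⟨a, b, hab, ha, hb⟩ := exists_of_coeff_mul_ne_zero h
      rw [eq_ix a] at ha hab; rw [eq_ix b] at hb hab
      rw [ix_add] at hab
      obtain ⟨h0, h1⟩ := ix_inj hab
      have := (ih _ _).1 ha
      rw [coeff_one_add_mul_one_add] at hb
      have hb' : b 0 ≤ 1 ∧ b 1 ≤ 1 := by by_contra hne; exact hb (if_neg hne)
      omega
    · have hsplit : ix p q = ix (min p k) (min q k) + ix (p - min p k) (q - min q k) := by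
        rw [ix_add]; congr 1 <;> omega
      rw [pow_succ, hsplit]
      refine coeff_mul_pos hpow hbase ((ih _ _).2 ⟨by omega, by omega⟩) ?_
      rw [coeff_one_add_mul_one_add, if_pos ⟨by omega, by omega⟩]; norm_num

/-- The series `∑_{u, v ≥ 1, u + v ≤ b} C(b, u + v) y^u z^v`. -/
noncomputable def Pser (b : ℕ) : MvPowerSeries (Fin 2) ℤ :=
  ∑ u ∈ range (b + 1), ∑ v ∈ range (b + 1),
    if 1 ≤ u ∧ 1 ≤ v ∧ u + v ≤ b then (b.choose (u + v) : MvPowerSeries (Fin 2) ℤ) * X 0 ^ u * X 1 ^ v else 0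

/-- The series `∑_{u + v + 1 ≤ b - 1} C(b - 1, u + v + 1) y^u z^v`. -/
noncomputable def Nser (b : ℕ) : MvPowerSeries (Fin 2) ℤ :=
  ∑ u ∈ range b, ∑ v ∈ range b,
    if u + v + 1 ≤ b - 1 then ((b - 1).choose (u + v + 1) : MvPowerSeries (Fin 2) ℤ) * X 0 ^ u * X 1 ^ v else 0

theorem coeff_Pser (b u v : ℕ) : 0 ≤ coeff (ix u v) (Pser b) ∧
    (coeff (ix u v) (Pser b) ≠ 0 → 1 ≤ u ∧ 1 ≤ v ∧ u + v ≤ b) ∧
    (1 ≤ u ∧ 1 ≤ v ∧ u + v ≤ b → 0 < coeff (ix u v) (Pser b)) := by
  rw [Pser, coeff_boxSum (fun u v => 1 ≤ u ∧ 1 ≤ v ∧ u + v ≤ b) (fun u v => b.choose (u + v))]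
  refine ⟨by split <;> simp, fun h => ?_, fun h => ?_⟩
  · by_contra hne; exact h (if_neg fun hh => hne hh.2.2)
  · rw [if_pos ⟨by omega, by omega, h⟩]; exact_mod_cast Nat.choose_pos h.2.2

theorem coeff_Nser (b u v : ℕ) : 0 ≤ coeff (ix u v) (Nser b) ∧
    (coeff (ix u v) (Nser b) ≠ 0 → u + v + 2 ≤ b) ∧
    (u + v + 2 ≤ b → 0 < coeff (ix u v) (Nser b)) := by
  rw [Nser, coeff_boxSum (fun u v => u + v + 1 ≤ b - 1) (fun u v => (b - 1).choose (u + v + 1))]
  refine ⟨by split <;> simp, fun h => ?_, fun h => ?_⟩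
  · by_contra hne; exact h (if_neg fun hh => hne (by omega))
  · rw [if_pos ⟨by omega, by omega, by omega⟩]; exact_mod_cast Nat.choose_pos (by omega)

/-- The support of the hypersurface series of degree `a`. -/
def Supp (a p q : ℕ) : Prop := p + q + 2 ≤ (p + 1) * a ∧ p + q + 2 ≤ (q + 1) * a

theorem coeff_hyp {a : ℕ} {H : MvPowerSeries (Fin 2) ℤ} (hH : (1 - Pser a) * H = Nser a) : ∀ (p q : ℕ),
    0 ≤ coeff (ix p q) H ∧ (coeff (ix p q) H ≠ 0 ↔ Supp a p q) := by
  classical
  have hrec : H = Nser a + Pser a * H := by rw [← hH]; ring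
  intro p
  induction p using Nat.strong_induction_on with
  | _ p ih =>
  intro q
  have hterm : ∀ x ∈ antidiagonal (ix p q), coeff x.1 (Pser a) ≠ 0 → (1 ≤ x.1 0 ∧ 1 ≤ x.1 1 ∧ x.1 0 + x.1 1 ≤ a) ∧
      x.1 0 + x.2 0 = p ∧ x.1 1 + x.2 1 = q ∧ 0 ≤ coeff x.2 H ∧ (coeff x.2 H ≠ 0 ↔ Supp a (x.2 0) (x.2 1)) := by
    intro x hx h1
    rw [HasAntidiagonal.mem_antidiagonal] at hx
    rw [eq_ix x.1] at h1
    have h2 := (coeff_Pser a _ _).2.1 h1
    have h0 : x.1 0 + x.2 0 = p := by simpa using DFunLike.congr_fun hx 0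
    have h0' : x.1 1 + x.2 1 = q := by simpa using DFunLike.congr_fun hx 1
    have := ih (x.2 0) (by omega) (x.2 1)
    rw [← eq_ix] at this
    exact ⟨h2, h0, h0', this.1, this.2⟩
  have hnn : ∀ x ∈ antidiagonal (ix p q), 0 ≤ coeff x.1 (Pser a) * coeff x.2 H := by
    intro x hx
    by_cases h1 : coeff x.1 (Pser a) = 0
    · simp [h1]
    · refine mul_nonneg ?_ (hterm x hx h1).2.2.2.1
      rw [eq_ix x.1]; exact (coeff_Pser a _ _).1
  have hval : coeff (ix p q) H = coeff (ix p q) (Nser a) +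
      ∑ x ∈ antidiagonal (ix p q), coeff x.1 (Pser a) * coeff x.2 H := by
    conv_lhs => rw [hrec]
    rw [map_add, coeff_mul]
  have hN := coeff_Nser a p q
  have hs := sum_nonneg hnn
  refine ⟨by rw [hval]; linarith [hN.1], fun h => ?_, fun h => ?_⟩
  · rw [hval] at h
    by_cases hN0 : coeff (ix p q) (Nser a) = 0
    · obtain ⟨x, hx, hne⟩ := exists_ne_zero_of_sum_ne_zero (by simpa [hN0] using h)
      obtain ⟨⟨hu, hv, huv⟩, hp, hq, -, hS⟩ := hterm x hx (left_ne_zero_of_mul hne)
      obtain ⟨s1, s2⟩ := hS.1 (right_ne_zero_of_mul hne)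
      constructor
      · have : (x.2 0 + 1) * a + a ≤ (p + 1) * a := by nlinarith
        omega
      · have : (x.2 1 + 1) * a + a ≤ (q + 1) * a := by nlinarith
        omega
    · have := hN.2.1 hN0
      constructor
      · nlinarith
      · nlinarith
  · rw [hval]
    by_cases hsmall : p + q + 2 ≤ a
    · have := hN.2.2 hsmall; linarith
    · obtain ⟨s1, s2⟩ := h
      have hp1 : 1 ≤ p := by rcases Nat.eq_zero_or_pos p with rfl | h' <;> omega
      have hq1 : 1 ≤ q := by rcases Nat.eq_zero_or_pos q with rfl | h' <;> omega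
      have ha2 : 2 ≤ a := by
        by_contra hlt
        interval_cases a <;> omega
      obtain ⟨u, v, hu, hv, huv, hup, hvq, hS⟩ : ∃ u v, 1 ≤ u ∧ 1 ≤ v ∧ u + v ≤ a ∧ u ≤ p ∧ v ≤ q ∧ Supp a (p - u) (q - v) := by
        rcases le_total p q with hpq | hqp
        · refine ⟨1, min (a - 1) (q - (p - 1)), le_rfl, by omega, by omega, hp1, by omega, ?_, ?_⟩
          · rw [show p - 1 + 1 = p by omega]
            rcases le_total (a - 1) (q - (p - 1)) with h' | h'
            · rw [min_eq_left h']; have : (p + 1) * a = p * a + a := by ring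
              omega
            · rw [min_eq_right h']; have : p * 2 ≤ p * a := Nat.mul_le_mul_left _ ha2
              omega
          · rcases le_total (a - 1) (q - (p - 1)) with h' | h'
            · rw [min_eq_left h']
              have : p * a ≤ (q - (a - 1) + 1) * a := Nat.mul_le_mul_right _ (by omega)
              have : (p + 1) * a = p * a + a := by ring
              omega
            · rw [min_eq_right h', show q - (q - (p - 1)) = p - 1 by omega, show p - 1 + 1 = p by omega]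
              have : p * 2 ≤ p * a := Nat.mul_le_mul_left _ ha2
              omega
        · refine ⟨min (a - 1) (p - (q - 1)), 1, by omega, le_rfl, by omega, by omega, hq1, ?_, ?_⟩
          · rcases le_total (a - 1) (p - (q - 1)) with h' | h'
            · rw [min_eq_left h']
              have : q * a ≤ (p - (a - 1) + 1) * a := Nat.mul_le_mul_right _ (by omega)
              have : (q + 1) * a = q * a + a := by ring
              omega
            · rw [min_eq_right h', show p - (p - (q - 1)) = q - 1 by omega, show q - 1 + 1 = q by omega]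
              have : q * 2 ≤ q * a := Nat.mul_le_mul_left _ ha2
              omega
          · rw [show q - 1 + 1 = q by omega]
            rcases le_total (a - 1) (p - (q - 1)) with h' | h'
            · rw [min_eq_left h']; have : (q + 1) * a = q * a + a := by ring
              omega
            · rw [min_eq_right h']; have : q * 2 ≤ q * a := Nat.mul_le_mul_left _ ha2
              omega
      have hmem : (ix u v, ix (p - u) (q - v)) ∈ antidiagonal (ix p q) := by
        rw [HasAntidiagonal.mem_antidiagonal, ix_add, Nat.add_sub_cancel' hup, Nat.add_sub_cancel' hvq]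
      have hpos : 0 < coeff (ix u v) (Pser a) := (coeff_Pser a u v).2.2 ⟨hu, hv, huv⟩
      obtain ⟨h1, h2⟩ := ih (p - u) (by omega) (q - v)
      have hH' : 0 < coeff (ix (p - u) (q - v)) H := lt_of_le_of_ne h1 (Ne.symm (h2.2 hS))
      have := sum_pos' hnn ⟨_, hmem, mul_pos hpos hH'⟩
      linarith [hN.1]

theorem exists_distrib {ι : Type*} [DecidableEq ι] (s : Finset ι) (b : ι → ℕ) :
    ∀ (k R : ℕ), R ≤ (∑ i ∈ s, b i) + k → ∃ (g : ι → ℕ) (f : ℕ), (∀ i ∈ s, g i ≤ b i) ∧ f ≤ k ∧ (∑ i ∈ s, g i) + f = R := by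
  induction s using Finset.induction_on with
  | empty => intro k R h; exact ⟨fun _ => 0, R, by simp, by simpa using h, by simp⟩
  | insert i s hi ih =>
    intro k R h
    rw [sum_insert hi] at h
    obtain ⟨g, f, hg, hf, hs⟩ := ih k (R - min R (b i)) (by omega)
    refine ⟨Function.update g i (min R (b i)), f, fun j hj => ?_, hf, ?_⟩
    · rcases mem_insert.1 hj with rfl | hj'
      · rw [Function.update_self]; omega
      · rw [Function.update_of_ne (ne_of_mem_of_not_mem hj' hi)]; exact hg j hj'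
    · rw [sum_insert hi, Function.update_self, sum_congr rfl (fun j hj => Function.update_of_ne (ne_of_mem_of_not_mem hj hi) _ g)]
      change Finset.sum s g + f = _ at hs
      omega

variable {d : ℕ} {a : Fin d → ℕ} {Hs : Fin d → MvPowerSeries (Fin 2) ℤ}

/-- The series of the multidegree. -/
noncomputable def total (Hs : Fin d → MvPowerSeries (Fin 2) ℤ) : MvPowerSeries (Fin 2) ℤ :=
  ∑ P ∈ (Finset.univ : Finset (Fin d)).powerset with P.Nonempty, ((1 + X 0) * (1 + X 1)) ^ (P.card - 1) * ∏ i ∈ P, Hs i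

theorem coeff_total_ne_zero_iff (ha : ∀ i, 1 ≤ a i) (hH : ∀ i, (1 - Pser (a i)) * Hs i = Nser (a i))
    {p q : ℕ} (hpq : p ≤ q) :
    coeff (ix p q) (total Hs) ≠ 0 ↔ p + q + d < p * univ.sup a + ∑ i, a i := by
  classical
  set M := univ.sup a with hM
  have hnH : ∀ i, Nonneg (Hs i) := fun i m => by rw [eq_ix m]; exact (coeff_hyp (hH i) _ _).1
  have hnE : ∀ k, Nonneg (((1 + X 0) * (1 + X 1)) ^ k : MvPowerSeries (Fin 2) ℤ) := fun k m => by
    rw [eq_ix m]
    by_cases h : coeff (ix (m 0) (m 1)) (((1 + X 0) * (1 + X 1)) ^ k : MvPowerSeries (Fin 2) ℤ) = 0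
    · rw [h]
    · exact ((coeff_pow_box k _ _).2 ((coeff_pow_box k _ _).1 h)).le
  have haM : ∀ i, a i ≤ M := fun i => le_sup (f := a) (mem_univ i)
  rw [total, map_sum]
  constructor
  · intro h
    obtain ⟨P, hP, hne⟩ := exists_ne_zero_of_sum_ne_zero h
    obtain ⟨e, r, her, he, hr⟩ := exists_of_coeff_mul_ne_zero hne
    obtain ⟨g, hg, hg'⟩ := exists_of_coeff_prod_ne_zero hr
    rw [eq_ix e] at he
    obtain ⟨he0, he1⟩ := (coeff_pow_box _ _ _).1 he
    have hp : e 0 + ∑ i ∈ P, g i 0 = p := by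
      have := DFunLike.congr_fun her 0
      rw [← hg] at this; simpa [Finsupp.finsetSum_apply] using this
    have hq : e 1 + ∑ i ∈ P, g i 1 = q := by
      have := DFunLike.congr_fun her 1
      rw [← hg] at this; simpa [Finsupp.finsetSum_apply] using this
    have hterm : ∀ i ∈ P, g i 0 + g i 1 + 2 ≤ g i 0 * M + a i := fun i hi => by
      have h1 := hg' i hi
      rw [eq_ix (g i)] at h1
      have h2 := ((coeff_hyp (hH i) _ _).2.1 h1).1
      have h3 : g i 0 * a i ≤ g i 0 * M := Nat.mul_le_mul_left _ (haM i)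
      rw [add_mul, one_mul] at h2; omega
    have hsum := sum_le_sum hterm
    simp only [sum_add_distrib, ← sum_mul, sum_const, smul_eq_mul] at hsum
    have hP1 : 1 ≤ P.card := (mem_filter.1 hP).2.card_pos
    obtain ⟨i1, hi1⟩ := (mem_filter.1 hP).2
    have hM1 : 1 ≤ M := (ha i1).trans (haM i1)
    have he0M : e 0 ≤ e 0 * M := Nat.le_mul_of_pos_right _ hM1
    have hrest : ∑ i ∈ P, a i + (d - P.card) ≤ ∑ i, a i := by
      rw [← sum_add_sum_compl P a]
      have : ∑ i ∈ Pᶜ, (1 : ℕ) ≤ ∑ i ∈ Pᶜ, a i := sum_le_sum fun i _ => ha i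
      rw [sum_const, smul_eq_mul, mul_one, card_compl, Fintype.card_fin] at this
      omega
    have hd : P.card ≤ d := by simpa using card_le_univ P
    rw [← hp, ← hq, add_mul]
    omega
  · intro h
    have hsum : ∑ i, a i = ∑ i, (a i - 1) + d := by
      rw [sum_congr rfl (fun i _ => (Nat.sub_add_cancel (ha i)).symm), sum_add_distrib]; simp
    have : Nonempty (Fin d) := by
      by_contra hne
      rw [not_nonempty_iff] at hne
      simp [hM] at h
    obtain ⟨i0, -, hi0⟩ := exists_mem_eq_sup univ univ_nonempty a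
    rw [← hM] at hi0
    have hM2 : 2 ≤ M := by
      by_contra hlt
      have : ∀ i, a i - 1 = 0 := fun i => by have := haM i; omega
      rw [hsum, sum_congr rfl (fun i _ => this i)] at h
      simp only [sum_const_zero, zero_add] at h
      have : p * M ≤ p * 1 := Nat.mul_le_mul_left _ (by omega)
      omega
    let P : Finset (Fin d) := univ.filter fun i => 2 ≤ a i
    have hi0P : i0 ∈ P := mem_filter.2 ⟨mem_univ _, by omega⟩
    have hP : P ∈ (univ : Finset (Fin d)).powerset.filter fun P => P.Nonempty :=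
      mem_filter.2 ⟨mem_powerset.2 (subset_univ _), ⟨i0, hi0P⟩⟩
    have hP1 : 1 ≤ P.card := card_pos.2 ⟨i0, hi0P⟩
    have hsum1 : ∑ i, (a i - 1) = ∑ i ∈ P, (a i - 1) := by
      refine (sum_subset (subset_univ _) fun i _ hi => ?_).symm
      have : ¬ 2 ≤ a i := fun h' => hi (mem_filter.2 ⟨mem_univ _, h'⟩)
      omega
    have hsum2 : ∑ i ∈ P, (a i - 1) = (∑ i ∈ P.erase i0, (a i - 2)) + (M - 1) + (P.card - 1) := by
      rw [← add_sum_erase P _ hi0P, ← card_erase_of_mem hi0P, ← hi0]
      rw [sum_congr rfl (fun i hi => show a i - 1 = (a i - 2) + 1 by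
        have := (mem_filter.1 (mem_of_mem_erase hi)).2; omega), sum_add_distrib, sum_const, smul_eq_mul, mul_one]
      omega
    have hcap : (p + 1) * M = p * M + M := by ring
    set cap := (p + 1) * M - p - 2 with hcap'
    have hpM : 2 * p ≤ p * M := by rw [mul_comm]; exact Nat.mul_le_mul_left _ hM2
    obtain ⟨gg, f, hgg, hf, hgs⟩ := exists_distrib (P.erase i0) (fun i => a i - 2) (P.card - 1) (q - min q cap) (by omega)
    let g : Fin d → (Fin 2 →₀ ℕ) := fun i => if i = i0 then ix p (min q cap) else ix 0 (gg i)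
    have hgpos : ∀ i ∈ P, 0 < coeff (g i) (Hs i) := by
      intro i hi
      have hSupp : ∀ x y, Supp (a i) x y → 0 < coeff (ix x y) (Hs i) := fun x y hs =>
        lt_of_le_of_ne (coeff_hyp (hH i) x y).1 (Ne.symm ((coeff_hyp (hH i) x y).2.2 hs))
      by_cases hii : i = i0
      · simp only [g, if_pos hii]
        subst hii
        refine hSupp _ _ ⟨by rw [← hi0]; omega, ?_⟩
        rw [← hi0]
        have : (min q cap + 1) * 2 ≤ (min q cap + 1) * M := Nat.mul_le_mul_left _ hM2
        omega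
      · simp only [g, if_neg hii]
        have h1 := hgg i (mem_erase.2 ⟨hii, hi⟩)
        have h2 := (mem_filter.1 hi).2
        refine hSupp _ _ ⟨by omega, ?_⟩
        have : 1 * a i ≤ (gg i + 1) * a i := Nat.mul_le_mul_right _ (by omega)
        omega
    have hpos := coeff_mul_pos (hnE (P.card - 1)) (nonneg_prod fun i _ => hnH i)
      ((coeff_pow_box (P.card - 1) 0 f).2 ⟨by omega, hf⟩) (coeff_prod_pos (fun i _ => hnH i) hgpos)
    have hidx : ix 0 f + ∑ i ∈ P, g i = ix p q := by
      rw [← add_sum_erase P g hi0P, sum_congr rfl (fun i hi => show g i = ix 0 (gg i) from if_neg (ne_of_mem_erase hi))]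
      ext j; fin_cases j
      · simp [g]
      · simp [g]; omega
    rw [hidx] at hpos
    exact (sum_pos' (fun Q _ => (hnE (Q.card - 1)).mul (nonneg_prod (s := Q) fun i _ => hnH i) _) ⟨P, hP, hpos⟩).ne'

end Groth.Agent.HodgeSeriesLib
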